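import Cfsg.Agent.S3224
import Cfsg.Agent.S0508
import Cfsg.Agent.SmallOrder.PSL2Spec.Main
import Cfsg.Agent.SmallOrder.Spec5.KTwo

/-!
# The case `|D| = 4`, and the orders of the simple groups with element orders at most five
-/

set_option autoImplicit false
set_option linter.unusedSectionVars false
set_option maxHeartbeats 1000000

namespace Cfsg.Agent.SmallOrder.Spec5

open Subgroup

variable {G : Type*} [Group G] [Finite G]

namespace Spec5

variable (h : Spec5 G)
include h

/-- A simple group with dihedral Sylow 2-subgroups of order 8. -/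
theorem dihedral_case [IsSimpleGroup G] (S : Sylow 2 G) (e : (S : Subgroup G) ≃* DihedralGroup 4) :
    Nat.card G = 60 ∨ Nat.card G = 360 := by
  classical
  haveI : Fact (Nat.Prime 2) := ⟨Nat.prime_two⟩
  set t₀ := e.symm (DihedralGroup.r 2) with ht₀
  set t : G := (t₀ : G) with ht
  have ho : orderOf t = 2 := by
    rw [ht, orderOf_coe, ht₀, MulEquiv.orderOf_eq, DihedralGroup.orderOf_r]; decide
  have hZ : ∀ s ∈ (S : Subgroup G), s * t = t * s := fun s hs => by
    have : (⟨s, hs⟩ : (S : Subgroup G)) * t₀ = t₀ * ⟨s, hs⟩ := e.injective (by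
      rw [map_mul, map_mul, ht₀, MulEquiv.apply_symm_apply]
      generalize e ⟨s, hs⟩ = x
      revert x; decide)
    exact congrArg Subtype.val this
  have hO : Cfsg.oddCore (centralizer ({t} : Set G)) = ⊥ := by
    refine sSup_eq_bot.2 ?_
    intro K hK
    have hC := h.cent_isPGroup (r := 2) (x := t) ⟨1, by rw [ho, pow_one]⟩ (fun e => by rw [e, orderOf_one] at ho; omega)
    obtain ⟨i, hi⟩ := IsPGroup.iff_card.1 (hC.to_subgroup K)
    have hodd := hK.2
    rw [hi] at hodd
    rcases Nat.eq_zero_or_pos i with rfl | hpos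
    · exact Subgroup.card_eq_one.1 (by rw [hi, pow_zero])
    · exact absurd (Nat.coprime_two_right.1 hodd) (Nat.not_odd_iff_even.2 (even_iff_two_dvd.2 (dvd_pow_self 2 hpos.ne')))
  obtain ⟨F, _, _, hF, ⟨φ⟩⟩ := Cfsg.Agent.S0508.result S 4 (by norm_num) ⟨e⟩ t ho t₀.2 hZ ⊥
    (by rw [hO, Subgroup.map_bot]) (fun hne => absurd rfl hne) (fun s _ hs => absurd (by
      rw [mem_centralizer_iff]
      intro z hz
      rw [show z = 1 from Subgroup.mem_bot.1 hz, one_mul, mul_one]) hs) (fun Y hY hne => absurd (le_bot_iff.1 hY) hne)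
  have h8 : 8 ∣ Nat.card G := by
    have := Subgroup.card_subgroup_dvd_card (S : Subgroup G)
    rwa [Nat.card_congr e.toEquiv, DihedralGroup.nat_card] at this
  rw [Nat.card_congr φ.toEquiv] at h8 ⊢
  by_cases h3 : Fintype.card F ≤ 3
  · exfalso
    have h2 := Fintype.one_lt_card (α := F)
    rcases (show Fintype.card F = 2 ∨ Fintype.card F = 3 by omega) with e' | e'
    · rw [e'] at hF; exact absurd hF (by decide)
    · have hc := Cfsg.Agent.Linear.card_PSL_two (F := F)
      rw [e'] at hc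
      norm_num at hc
      rw [← Nat.card_eq_fintype_card (α := Matrix.ProjectiveSpecialLinearGroup (Fin 2) F)] at hc; omega
  · obtain ⟨p, n, m, B, hp, hp2, hn, hq, hqmB, hmB, hmodd, hm3, hB2, hBev, hcard, hspec⟩ :=
      PSL2Spec.psl_data F hF (by omega)
    have hle : ∀ d, d ∣ p ∨ d ∣ m ∨ d ∣ B → d ≤ 5 := fun d hd => by
      obtain ⟨x, hx⟩ : d ∈ Set.range (orderOf : Matrix.ProjectiveSpecialLinearGroup (Fin 2) F → ℕ) := hspec ▸ hd
      have := h (φ.symm x)
      rw [MulEquiv.orderOf_eq, hx] at this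
      exact this
    have hp5 := hle p (Or.inl dvd_rfl)
    have hm5 := hle m (Or.inr (Or.inl dvd_rfl))
    have hB5 := hle B (Or.inr (Or.inr dvd_rfl))
    rw [hcard]
    rw [hq] at hqmB ⊢
    have hpq : p ∣ p ^ n := dvd_pow_self p hn
    obtain ⟨i, hi⟩ := hmodd
    rcases (show B = 2 ∨ B = 4 by omega) with rfl | rfl
    · rcases (show m = 3 by omega) with rfl
      exact Or.inl (by rw [hqmB])
    · rcases (show m = 3 ∨ m = 5 by omega) with rfl | rfl
      · exfalso
        rw [hqmB] at hpq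
        rcases (Nat.dvd_prime (by norm_num : Nat.Prime 7)).1 hpq with e' | e'
        · exact hp.ne_one e'
        · omega
      · exact Or.inr (by rw [hqmB])

end Spec5

namespace Conf

variable {D : Subgroup G} (h : Spec5 G) (c : Conf D)
include h c

/-- `|D| = 4`. -/
theorem k_one [IsSimpleGroup G] (h4 : Nat.card D = 4) : Nat.card G = 60 ∨ Nat.card G = 360 := by
  haveI : Fact (Nat.Prime 2) := ⟨Nat.prime_two⟩
  set N := normalizer (D : Set G) with hN
  have hs := c.spec h
  have h4' : Nat.card (D.subgroupOf N) = 4 := (c.card_eq h).trans h4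
  obtain ⟨q, hq2, hqq, hq⟩ := c.loc.exists_root hs
  rw [h4'] at hqq
  have hq' : q = 2 := by nlinarith
  subst hq'
  haveI := c.loc.normal
  obtain ⟨T⟩ := (inferInstance : Nonempty (Sylow 2 N))
  obtain ⟨a, ha, haD, ha2⟩ := c.loc.exists_invol hs T
  set D' := D.subgroupOf N with hD'
  set C := D' ⊓ centralizer ({a} : Set N) with hC
  have hCc : Nat.card C = 2 := hq a haD ha2
  obtain ⟨⟨z, hz⟩, hz1⟩ : ∃ z : C, z ≠ 1 := by
    haveI : Nontrivial C := Finite.one_lt_card_iff_nontrivial.1 (by rw [hCc]; norm_num)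
    exact exists_ne 1
  have hz1' : z ≠ 1 := fun e => hz1 (Subtype.ext e)
  have hCz : ∀ w ∈ C, w = 1 ∨ w = z := fun w hw => by
    by_contra hne
    push Not at hne
    have h3 : ({1, z, w} : Set N) ⊆ (C : Set N) := by
      rintro x (rfl | rfl | rfl)
      exacts [C.one_mem, hz, hw]
    have h5 := Set.ncard_le_ncard h3 (Set.toFinite _)
    rw [Set.ncard_insert_of_notMem (by simp [Ne.symm hz1', Ne.symm hne.1]) (Set.toFinite _),
      Set.ncard_pair (Ne.symm hne.2), ← Nat.card_coe_set_eq, SetLike.coe_sort_coe, hCc] at h5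
    omega
  -- `z` is central in `T`
  have hzT : ∀ b ∈ (T : Subgroup N), b * z * b⁻¹ = z := by
    intro b hb
    have hmem : b * a * b⁻¹ * a⁻¹ ∈ D' := by
      have e : b * a * b⁻¹ * a⁻¹ = (b * b) * b⁻¹ * ((a * b⁻¹) * (a * b⁻¹)) * b * (a * a)⁻¹ := by group
      rw [e, mul_assoc (b * b) b⁻¹, mul_assoc (b * b)]
      refine D'.mul_mem (D'.mul_mem (c.loc.sq_mem hs T hb) ?_) (D'.inv_mem (c.loc.sq_mem hs T ha))
      have := c.loc.normal.conj_mem _ (c.loc.sq_mem hs T (mul_mem ha (inv_mem hb))) b⁻¹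
      rwa [inv_inv] at this
    have hbz : b * z * b⁻¹ ∈ C := by
      refine ⟨c.loc.normal.conj_mem z hz.1 b, mem_centralizer_singleton_iff.2 ?_⟩
      have hd : b * a * b⁻¹ = (b * a * b⁻¹ * a⁻¹) * a := by group
      have hza := (conj_comm_iff b z a).2 (mem_centralizer_singleton_iff.1 hz.2)
      rw [hd, ← mul_assoc, c.loc.comm hs (c.loc.normal.conj_mem z hz.1 b) hmem, mul_assoc, mul_assoc (b * a * b⁻¹ * a⁻¹) a] at hza
      exact mul_left_cancel hza
    exact (hCz _ hbz).resolve_left (fun e => hz1' (by simpa using e))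
  obtain ⟨u, hu, hu1, huz⟩ : ∃ u ∈ D', u ≠ 1 ∧ u ≠ z := by
    by_contra hcon
    push Not at hcon
    have h3 : (D' : Set N) ⊆ {1, z} := fun x hx => by
      by_cases e : x = 1
      · exact Or.inl e
      · exact Or.inr (hcon x hx e)
    have h5 := Set.ncard_le_ncard h3 (Set.toFinite _)
    rw [Set.ncard_pair (Ne.symm hz1'), ← Nat.card_coe_set_eq, SetLike.coe_sort_coe, h4'] at h5
    omega
  have hCT : ∀ x ∈ (T : Subgroup N), x * u = u * x → x ∈ D' := by
    intro x hx e
    by_contra hxD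
    have hCx : Nat.card (D' ⊓ centralizer ({x} : Set N) : Subgroup N) = 2 :=
      hq x hxD (c.loc.sq_mem hs T hx)
    have h3 : ({1, z, u} : Set N) ⊆ ((D' ⊓ centralizer ({x} : Set N) : Subgroup N) : Set N) := by
      rintro w (rfl | rfl | rfl)
      · exact one_mem _
      · exact ⟨hz.1, mem_centralizer_singleton_iff.2 (mul_inv_eq_iff_eq_mul.1 (hzT x hx)).symm⟩
      · exact ⟨hu, mem_centralizer_singleton_iff.2 e.symm⟩
    have h5 := Set.ncard_le_ncard h3 (Set.toFinite _)
    rw [Set.ncard_insert_of_notMem (by simp [Ne.symm hz1', Ne.symm hu1]) (Set.toFinite _),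
      Set.ncard_pair (Ne.symm huz), ← Nat.card_coe_set_eq, SetLike.coe_sort_coe, hCx] at h5
    omega
  obtain ⟨S, hS⟩ := (T.2.map N.subtype).exists_le_sylow
  have hST : ∀ x ∈ (S : Subgroup G), x ∈ N → ∃ x' ∈ (T : Subgroup N), (x' : G) = x := fun x hx hxN => by
    have hle : (S : Subgroup G).subgroupOf N = T :=
      T.3 (S.2.comap_of_injective _ N.subtype_injective) (fun w hw => mem_subgroupOf.2 (hS ⟨w, hw, rfl⟩))
    exact ⟨⟨x, hxN⟩, by rw [← hle]; exact mem_subgroupOf.2 hx, rfl⟩
  have hDS : D ≤ (S : Subgroup G) := fun d hd => hS ⟨⟨d, le_normalizer hd⟩, c.loc.le T (mem_subgroupOf.2 hd), rfl⟩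
  have huD : (u : G) ∈ D := mem_subgroupOf.1 hu
  have hu1' : (u : G) ≠ 1 := fun e => hu1 (Subtype.ext e)
  have hW : (S : Subgroup G) ⊓ centralizer ({(u : G)} : Set G) = D := by
    refine le_antisymm ?_ (le_inf hDS (c.le_cent h huD))
    by_contra hnle
    obtain ⟨x, hxW, hxn, hxD⟩ := exists_mem_normalizer_notMem (P := (S : Subgroup G) ⊓ centralizer ({(u : G)} : Set G))
      (S.2.to_le inf_le_left) (le_inf hDS (c.le_cent h huD)) (fun e => hnle e.ge)
    obtain ⟨x', hx', rfl⟩ := hST x hxW.1 hxn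
    exact hxD (mem_subgroupOf.1 (hCT x' hx' (Subtype.ext (mem_centralizer_singleton_iff.1 hxW.2))))
  set uS : (S : Subgroup G) := ⟨u, hDS huD⟩ with huS
  have hCu : centralizer ({uS} : Set (S : Subgroup G)) =
      ((S : Subgroup G) ⊓ centralizer ({(u : G)} : Set G)).subgroupOf S := by
    ext x
    rw [mem_subgroupOf, Subgroup.mem_inf, mem_centralizer_singleton_iff, mem_centralizer_singleton_iff]
    exact ⟨fun e => ⟨x.2, congrArg Subtype.val e⟩, fun e => Subtype.ext e.2⟩
  have h8 : 8 ≤ Nat.card (S : Subgroup G) := by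
    have h1 := Subgroup.card_le_of_le hS
    rw [Subgroup.card_map_of_injective N.subtype_injective] at h1
    refine le_trans ?_ h1
    have h2 := relIndex_mul_relIndex ⊥ D' (T : Subgroup N) bot_le (c.loc.le T)
    rw [relIndex_bot_left, relIndex_bot_left, h4'] at h2
    rcases c.loc.index_cases hs T with e | ⟨e, -⟩ <;> (rw [e] at h2; omega)
  have hexp : ∀ x : (S : Subgroup G), orderOf x ∣ 4 := fun x => by
    rw [← orderOf_coe, orderOf_dvd_iff_pow_eq_one]; exact h.pow_four S.2 x.2
  rcases Cfsg.Agent.S3224.result (S := (S : Subgroup G)) S.2 uS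
    (by
      rw [← orderOf_coe]
      exact orderOf_eq_prime (by rw [pow_two]; exact c.sq_one h huD) hu1')
    (by rw [hCu, Nat.card_congr (subgroupOfEquivOfLe inf_le_left).toEquiv, hW, h4]) with ⟨n, ⟨e⟩⟩ | hQ | hc
  · have hn : n ∣ 4 := by
      have := hexp (e.symm (DihedralGroup.r 1))
      rwa [MulEquiv.orderOf_eq, DihedralGroup.orderOf_r_one] at this
    have hc := Nat.card_congr e.toEquiv
    rw [DihedralGroup.nat_card] at hc
    have := Nat.le_of_dvd (by norm_num) hn
    obtain rfl : n = 4 := by omega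
    exact h.dihedral_case S e
  · exfalso
    obtain ⟨n, hn, -, x, -, hx, -⟩ := hQ
    have h1 := Nat.le_of_dvd (by norm_num) (hexp x)
    rw [hx] at h1
    have : 2 ^ 3 ≤ 2 ^ n := Nat.pow_le_pow_right two_pos hn
    omega
  · omega

end Conf

namespace Spec5

variable (h : Spec5 G)
include h

/-- A non-abelian simple group of even order with element orders at most five. -/
theorem simple_card [IsSimpleGroup G] (hG : ¬ IsMulCommutative G) (h2 : 2 ∣ Nat.card G) :
    Nat.card G = 60 ∨ Nat.card G = 360 := by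
  by_cases hTI : ∀ P Q : Sylow 2 G, P ≠ Q → (P : Subgroup G) ⊓ Q = ⊥
  · exact Or.inl (h.ti_case hG h2 hTI)
  obtain ⟨D, c⟩ := exists_conf hTI
  haveI : Fact (Nat.Prime 2) := ⟨Nat.prime_two⟩
  haveI := c.loc.normal
  obtain ⟨q, hq2, hqq, hq⟩ := c.loc.exists_root (c.spec h)
  rw [c.card_eq h] at hqq
  by_cases hsmall : ∀ T : Sylow 2 (normalizer (D : Set G)),
      (D.subgroupOf (normalizer (D : Set G))).relIndex T *
        (D.subgroupOf (normalizer (D : Set G))).relIndex T < Nat.card D
  · exact (c.gen_false h hG hsmall).elim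
  push Not at hsmall
  obtain ⟨T, hT⟩ := hsmall
  rw [← hqq] at hT
  obtain ⟨i, hi⟩ := IsPGroup.iff_card.1 (c.isP h)
  have hqd : q ∣ 2 ^ i := ⟨q, by rw [← hi, hqq]⟩
  obtain ⟨j, -, hj⟩ := (Nat.dvd_prime_pow Nat.prime_two).1 hqd
  rcases c.loc.index_cases (c.spec h) T with e | ⟨e, -⟩ <;> rw [e] at hT
  · have hq' : q = 2 := by nlinarith
    exact c.k_one h (by rw [← hqq, hq'])
  · have hq4 : q ≤ 4 := by nlinarith
    rcases (show q = 2 ∨ q = 4 by
        rcases j with _ | _ | _ | j <;> simp_all [pow_succ] <;> omega) with hq' | hq'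
    · exact c.k_one h (by rw [← hqq, hq'])
    · refine (c.k_two_false h hG (by rw [← hqq, hq']) fun T' => ?_).elim
      have h1 := relIndex_mul_relIndex ⊥ (D.subgroupOf (normalizer (D : Set G))) (T : Subgroup (normalizer (D : Set G)))
        bot_le (c.loc.le T)
      have h2 := relIndex_mul_relIndex ⊥ (D.subgroupOf (normalizer (D : Set G))) (T' : Subgroup (normalizer (D : Set G)))
        bot_le (c.loc.le T')
      simp only [relIndex_bot_left] at h1 h2
      rw [T'.card_eq_multiplicity, ← T.card_eq_multiplicity, ← h1] at h2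
      exact (Nat.eq_of_mul_eq_mul_left Nat.card_pos h2).trans e

end Spec5

end Cfsg.Agent.SmallOrder.Spec5
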