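import Cfsg.Agent.S3992
import Cfsg.Agent.S0494
import Cfsg.Agent.S0497
import Cfsg.Agent.Core.BurnsidePQ
import Cfsg.Agent.Components.Prelim
import Cfsg.Agent.SmallOrder.Spec5.KOne

/-!
# Finite groups with element orders `{1, 2, 3, 4, 5}`
-/

set_option autoImplicit false
set_option linter.unusedSectionVars false
set_option maxHeartbeats 1000000

namespace Cfsg.Agent.SmallOrder.Spec5

open Subgroup

variable {G : Type*} [Group G] [Finite G]

namespace Spec5

variable (h : Spec5 G)
include h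

theorem norm_dvd {r e s i : ℕ} [Fact r.Prime] [Fact s.Prime] (hne : s ≠ r) {P : Subgroup G}
    (hP : Nat.card P = r ^ e) (hs : s ^ i ∣ Nat.card (normalizer (P : Set G))) : s ^ i ∣ r ^ e - 1 := by
  obtain ⟨X, hX⟩ := Sylow.exists_subgroup_card_pow_prime (G := normalizer (P : Set G)) s hs
  have hXp : IsPGroup s (X.map (normalizer (P : Set G)).subtype) := (IsPGroup.of_card hX).map _
  have hfree := Cfsg.Agent.FGS2.Order7920.free_dvd (X.map (normalizer (P : Set G)).subtype) P (map_subtype_le _)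
    (fun a ha ha1 z hz hz1 haz => by
      obtain ⟨k, hk⟩ := mem_pgroup_order hXp ha
      obtain ⟨l, hl⟩ := mem_pgroup_order (IsPGroup.of_card hP) hz
      exact h.comm_false haz.eq ha1 hz1 (hk ▸ hl ▸ ((Nat.coprime_primes Fact.out Fact.out).2 hne).pow _ _))
  rwa [Subgroup.card_map_of_injective (normalizer (P : Set G)).subtype_injective, hX, hP] at hfree

theorem two_dvd_card_of_not_solvable (hns : ¬ Group.IsSolvable G) : 2 ∣ Nat.card G := by
  by_contra hodd
  refine hns (Cfsg.Agent.Core.isSolvable_of_primeFactors_card_le_two ?_)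
  refine (Finset.card_le_card (t := ({3, 5} : Finset ℕ)) ?_).trans Finset.card_le_two
  intro p hp
  rw [Nat.mem_primeFactors] at hp
  rcases h.prime_cases hp.1 hp.2.1 with rfl | rfl | rfl
  · exact absurd hp.2.1 hodd
  · simp
  · simp

end Spec5

theorem a6_four : ∃ z u y : alternatingGroup (Fin 6), z * z = 1 ∧ u * u = 1 ∧ z * u = u * z ∧ z ≠ 1 ∧ u ≠ 1 ∧
    z ≠ u ∧ y * y * y = 1 ∧ y ≠ 1 ∧ y * z * y⁻¹ = u ∧ y * u * y⁻¹ = z * u ∧
    ∀ g, g * z = z * g → g * u = u * g → g = 1 ∨ g = z ∨ g = u ∨ g = z * u := by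
  refine ⟨⟨Equiv.swap 0 1 * Equiv.swap 2 3, Equiv.Perm.mem_alternatingGroup.2 (by decide)⟩, ⟨Equiv.swap 0 3 * Equiv.swap 1 2, Equiv.Perm.mem_alternatingGroup.2 (by decide)⟩,
    ⟨Equiv.swap 0 1 * Equiv.swap 1 2, Equiv.Perm.mem_alternatingGroup.2 (by decide)⟩, ?_⟩
  refine ⟨?_, ?_, ?_, ?_, ?_, ?_, ?_, ?_, ?_, ?_, ?_⟩ <;> decide +kernel

namespace Spec5

variable (h : Spec5 G)
include h

/-- An element of order 3 normalising a four group with trivially small centraliser in a normal subgroup of index 2. -/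
theorem no_index_two {M : Subgroup G} [M.Normal] (hM : Nat.card M = 360) (hidx : M.index = 2)
    (e : M ≃* alternatingGroup (Fin 6)) : False := by
  haveI : Fact (Nat.Prime 2) := ⟨Nat.prime_two⟩
  obtain ⟨z', u', y', hz2, hu2, hzu, hz1, hu1, hne, hy3, hy1, hyz, hyu, hC⟩ := a6_four
  set f : alternatingGroup (Fin 6) →* G := M.subtype.comp e.symm.toMonoidHom with hf
  have hfi : Function.Injective f := M.subtype_injective.comp e.symm.injective
  set z := f z' with hz
  set u := f u' with hu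
  set y := f y' with hy
  have hGc : Nat.card G = 720 := by rw [← M.card_mul_index, hM, hidx]
  set C := centralizer ({z} : Set G) ⊓ centralizer ({u} : Set G) with hCdef
  have hmemC : ∀ g, g ∈ C ↔ g * z = z * g ∧ g * u = u * g := fun g => by
    simp only [hCdef, Subgroup.mem_inf, mem_centralizer_singleton_iff]
  have hz1G : z ≠ 1 := (map_ne_one_iff f hfi).2 hz1
  have hu1G : u ≠ 1 := (map_ne_one_iff f hfi).2 hu1
  have hzo : ∃ k, orderOf z = 2 ^ k :=
    ⟨1, by rw [orderOf_eq_prime (by rw [pow_two, hz, ← map_mul, hz2, map_one]) hz1G, pow_one]⟩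
  have hCp : IsPGroup 2 C := (h.cent_isPGroup hzo hz1G).to_le inf_le_left
  have hCM : ∀ g ∈ C, g ∈ M → g ∈ ({1, z, u, z * u} : Set G) := by
    intro g hg hgM
    obtain ⟨h1, h2⟩ := (hmemC g).1 hg
    obtain ⟨g', hg'⟩ : ∃ g', f g' = g := ⟨e ⟨g, hgM⟩, by simp [hf]⟩
    rw [← hg'] at h1 h2
    rw [hz, ← map_mul, ← map_mul] at h1
    rw [hu, ← map_mul, ← map_mul] at h2
    rcases hC g' (hfi h1) (hfi h2) with rfl | rfl | rfl | rfl <;> simp [← hg', hz, hu]
  have hV : ({1, z, u, z * u} : Set G) ⊆ (C : Set G) := by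
    have hzC : z ∈ C := (hmemC z).2 ⟨rfl, by rw [hz, hu, ← map_mul, ← map_mul, hzu]⟩
    have huC : u ∈ C := (hmemC u).2 ⟨by rw [hz, hu, ← map_mul, ← map_mul, hzu], rfl⟩
    rintro x (rfl | rfl | rfl | rfl)
    exacts [C.one_mem, hzC, huC, C.mul_mem hzC huC]
  have hVc : ({1, z, u, z * u} : Set G).ncard = 4 := by
    have e' : ({1, z, u, z * u} : Set G) = f '' {1, z', u', z' * u'} := by
      simp [Set.image_insert_eq, hz, hu]
    rw [e', Set.ncard_image_of_injective _ hfi]
    have n1 : (1 : alternatingGroup (Fin 6)) ∉ ({z', u', z' * u'} : Set _) := by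
      simp only [Set.mem_insert_iff, Set.mem_singleton_iff, not_or]
      refine ⟨Ne.symm hz1, Ne.symm hu1, fun e1 => hne ?_⟩
      exact (eq_inv_of_mul_eq_one_left e1.symm).trans (inv_eq_of_mul_eq_one_right hu2)
    have n2 : z' ∉ ({u', z' * u'} : Set _) := by
      simp only [Set.mem_insert_iff, Set.mem_singleton_iff, not_or]
      exact ⟨hne, fun e1 => hu1 (mul_eq_left.1 e1.symm)⟩
    have n3 : u' ≠ z' * u' := fun e1 => hz1 (mul_eq_right.1 e1.symm)
    rw [Set.ncard_insert_of_notMem n1 (Set.toFinite _), Set.ncard_insert_of_notMem n2 (Set.toFinite _),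
      Set.ncard_pair n3]
  have h4 : 4 ≤ Nat.card C := by
    rw [← hVc, show Nat.card C = (C : Set G).ncard from Nat.card_coe_set_eq _]
    exact Set.ncard_le_ncard hV (Set.toFinite _)
  have hCM4 : Nat.card (C ⊓ M : Subgroup G) ≤ 4 := by
    rw [← hVc, show Nat.card (C ⊓ M : Subgroup G) = ((C ⊓ M : Subgroup G) : Set G).ncard from Nat.card_coe_set_eq _]
    exact Set.ncard_le_ncard (fun g hg => hCM g hg.1 hg.2) (Set.toFinite _)
  have h8 : Nat.card C ≤ 8 := by
    have h1 := relIndex_mul_relIndex ⊥ (C ⊓ M) C bot_le inf_le_left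
    rw [relIndex_bot_left, relIndex_bot_left, inf_comm, inf_relIndex_right, inf_comm] at h1
    have h2 : M.relIndex C ≤ 2 := by
      have := relIndex_le_of_le_right (H := M) (le_top : C ≤ ⊤) (by rw [relIndex_top_right, hidx]; norm_num)
      rwa [relIndex_top_right, hidx] at this
    rw [← h1]
    exact (Nat.mul_le_mul hCM4 h2).trans (by norm_num)
  -- `y` acts without fixed points on `C`
  have hyo : orderOf y = 3 := by
    haveI : Fact (Nat.Prime 3) := ⟨Nat.prime_three⟩
    rw [hy, orderOf_injective f hfi]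
    exact orderOf_eq_prime (by rw [pow_succ, pow_two, hy3]) hy1
  have hyN : y ∈ normalizer (C : Set G) := by
    have key : ∀ g, g ∈ C → y * g * y⁻¹ ∈ C := by
      intro g hg
      obtain ⟨h1, h2⟩ := (hmemC g).1 hg
      have a1 : y * g * y⁻¹ * u = u * (y * g * y⁻¹) := by
        rw [show u = y * z * y⁻¹ by rw [hy, hz, hu, ← map_inv, ← map_mul, ← map_mul, hyz]]
        exact (conj_comm_iff y g z).2 h1
      have a2 : y * g * y⁻¹ * (z * u) = z * u * (y * g * y⁻¹) := by
        rw [show z * u = y * u * y⁻¹ by rw [hy, hz, hu, ← map_inv, ← map_mul, ← map_mul, ← map_mul, hyu]]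
        exact (conj_comm_iff y g u).2 h2
      refine (hmemC _).2 ⟨?_, a1⟩
      apply mul_right_cancel (b := u)
      rw [mul_assoc, a2, mul_assoc z (y * g * y⁻¹) u, a1, ← mul_assoc z u]
    refine mem_normalizer_iff.2 fun g => ⟨key g, fun hg => ?_⟩
    have h2 := key _ (key _ hg)
    have hy3' : y * y * y = 1 := by rw [hy, ← map_mul, ← map_mul, hy3, map_one]
    rwa [show y * (y * (y * g * y⁻¹) * y⁻¹) * y⁻¹ = (y * y * y) * g * (y * y * y)⁻¹ by group, hy3', one_mul, inv_one,
      mul_one] at h2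
  have hy1G : y ≠ 1 := (map_ne_one_iff f hfi).2 hy1
  have hfree := Cfsg.Agent.FGS2.Order7920.free_dvd (zpowers y) C (zpowers_le.2 hyN)
    (fun s hs hs1 x hx hx1 hsx => hx1 (h.fpf hCp hs1 (by
      have h3 : orderOf s ∣ 3 := hyo ▸ orderOf_dvd_of_mem_zpowers hs
      exact Odd.of_dvd_nat (by decide) h3) x hx hsx.eq.symm))
  rw [Nat.card_zpowers, hyo] at hfree
  have hC4 : Nat.card C = 4 := by
    obtain ⟨i, hi⟩ := IsPGroup.iff_card.1 hCp
    rw [hi] at h4 h8 hfree ⊢
    have hi1 : 2 ≤ i := by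
      by_contra hlt
      have := Nat.pow_le_pow_right two_pos (show i ≤ 1 by omega)
      omega
    have hi2 : i ≤ 3 := by
      by_contra hlt
      have := Nat.pow_le_pow_right two_pos (show 4 ≤ i by omega)
      omega
    interval_cases i <;> omega
  -- a Sylow subgroup containing `C`
  obtain ⟨T, hT⟩ := hCp.exists_le_sylow
  have hT16 : Nat.card (T : Subgroup G) = 16 := by
    rw [T.card_eq_multiplicity, hGc, show (720 : ℕ) = 2 ^ 4 * 45 from rfl,
      Nat.factorization_mul (by norm_num) (by norm_num), Finsupp.add_apply, Nat.prime_two.factorization_pow,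
      Nat.factorization_eq_zero_of_not_dvd (by norm_num : ¬ 2 ∣ 45)]
    simp
  obtain ⟨c₀, hc₀T, hc₀1, -, hc₀c⟩ := exists_nontrivial_center T.2
    (fun e => by rw [e, Subgroup.card_bot] at hT16; omega)
  have hCV : (C : Set G) = {1, z, u, z * u} :=
    (Set.eq_of_subset_of_ncard_le hV (by rw [hVc, ← hC4, show Nat.card C = (C : Set G).ncard from Nat.card_coe_set_eq _])
      (Set.toFinite _)).symm
  have hzT : z ∈ (T : Subgroup G) := hT (hV (by simp))
  have huT : u ∈ (T : Subgroup G) := hT (hV (by simp))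
  have hc₀C : c₀ ∈ C := (hmemC c₀).2 ⟨(hc₀c z hzT).symm, (hc₀c u huT).symm⟩
  -- an involution of `T` with centraliser of order 4
  obtain ⟨x, hxC, hx1, hx⟩ : ∃ x ∈ C, x ≠ 1 ∧ ∀ g, g * c₀ = c₀ * g → g * x = x * g → g ∈ C := by
    have h0 : c₀ ∈ ({1, z, u, z * u} : Set G) := hCV ▸ hc₀C
    rcases h0 with rfl | rfl | rfl | rfl
    · exact absurd rfl hc₀1
    · exact ⟨u, hV (by simp), hu1G, fun g h1 h2 => (hmemC g).2 ⟨h1, h2⟩⟩
    · exact ⟨z, hV (by simp), hz1G, fun g h1 h2 => (hmemC g).2 ⟨h2, h1⟩⟩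
    · refine ⟨u, hV (by simp), hu1G, fun g h1 h2 => (hmemC g).2 ⟨?_, h2⟩⟩
      apply mul_right_cancel (b := u)
      rw [mul_assoc, h1, mul_assoc z g u, h2, ← mul_assoc z u]
  set xS : (T : Subgroup G) := ⟨x, hT hxC⟩
  have hCx : centralizer ({xS} : Set (T : Subgroup G)) = C.subgroupOf T := by
    ext g
    rw [mem_subgroupOf, mem_centralizer_singleton_iff]
    refine ⟨fun hg => hx g (hc₀c g g.2) (congrArg Subtype.val hg), fun hg => Subtype.ext ?_⟩
    obtain ⟨h1, h2⟩ := (hmemC g).1 hg
    show (g : G) * x = x * (g : G)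
    have hxV : x ∈ ({1, z, u, z * u} : Set G) := hCV ▸ hxC
    rcases hxV with rfl | rfl | rfl | rfl
    exacts [by simp, h1, h2, by rw [← mul_assoc, h1, mul_assoc, h2, mul_assoc]]
  have hexp : ∀ g : (T : Subgroup G), orderOf g ∣ 4 := fun g => by
    rw [← orderOf_coe, orderOf_dvd_iff_pow_eq_one]; exact h.pow_four T.2 g.2
  rcases Cfsg.Agent.S3224.result (S := (T : Subgroup G)) T.2 xS
    (by
      rw [← orderOf_coe]
      refine orderOf_eq_prime ?_ hx1
      have hxV : x ∈ ({1, z, u, z * u} : Set G) := hCV ▸ hxC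
      rw [pow_two]
      show x * x = 1
      rcases hxV with rfl | rfl | rfl | rfl
      · exact mul_one 1
      · rw [hz, ← map_mul, hz2, map_one]
      · rw [hu, ← map_mul, hu2, map_one]
      · rw [hz, hu, ← map_mul, ← map_mul, (show Commute u' z' from hzu.symm).mul_mul_mul_comm, hz2, hu2, mul_one,
          map_one])
    (by rw [hCx, Nat.card_congr (subgroupOfEquivOfLe hT).toEquiv, hC4]) with ⟨n, ⟨φ⟩⟩ | hQ | hc
  · have hn : n ∣ 4 := by
      have := hexp (φ.symm (DihedralGroup.r 1))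
      rwa [MulEquiv.orderOf_eq, DihedralGroup.orderOf_r_one] at this
    have hc := Nat.card_congr φ.toEquiv
    rw [DihedralGroup.nat_card, hT16] at hc
    have := Nat.le_of_dvd (by norm_num) hn
    omega
  · obtain ⟨n, hn, -, x', -, hx', -⟩ := hQ
    have h1 := Nat.le_of_dvd (by norm_num) (hexp x')
    rw [hx'] at h1
    have : 2 ^ 3 ≤ 2 ^ n := Nat.pow_le_pow_right two_pos hn
    omega
  · omega

/-- The socle is everything. -/
theorem socle_eq_top {M : Subgroup G} [M.Normal] [IsSimpleGroup M] (hMc : Nat.card M = 60 ∨ Nat.card M = 360) :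
    M = ⊤ := by
  haveI : Fact (Nat.Prime 2) := ⟨Nat.prime_two⟩
  haveI : Fact (Nat.Prime 3) := ⟨Nat.prime_three⟩
  haveI : Fact (Nat.Prime 5) := ⟨by norm_num⟩
  have hM : Spec5 M := h.of_injective M.subtype M.subtype_injective
  -- Frattini
  have hfr : ∀ r, [Fact r.Prime] → ∀ P : Sylow r M, M.index *
      Nat.card (normalizer ((P : Subgroup M) : Set M)) =
        Nat.card (normalizer (((P : Subgroup M).map M.subtype : Subgroup G) : Set G)) := by
    intro r _ P
    set K := normalizer (((P : Subgroup M).map M.subtype : Subgroup G) : Set G) with hK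
    have hsup : K ⊔ M = ⊤ := Sylow.normalizer_sup_eq_top P
    have h1 : M.index = M.relIndex K := by
      rw [← relIndex_top_right, ← hsup, relIndex_sup_right]
    have h2 : Nat.card (normalizer ((P : Subgroup M) : Set M)) = Nat.card (M ⊓ K : Subgroup G) := by
      rw [← Subgroup.card_map_of_injective M.subtype_injective]
      congr 2
      ext g
      constructor
      · rintro ⟨g, hg, rfl⟩
        refine ⟨g.2, mem_normalizer_iff.2 fun w => ⟨?_, ?_⟩⟩
        · rintro ⟨w, hw, rfl⟩
          exact ⟨g * w * g⁻¹, (mem_normalizer_iff.1 hg w).1 hw, rfl⟩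
        · rintro ⟨w', hw', e⟩
          refine ⟨g⁻¹ * w' * g, (mem_normalizer_iff.1 hg _).2 ?_, ?_⟩
          · rw [show g * (g⁻¹ * w' * g) * g⁻¹ = w' by group]; exact hw'
          · show (g : G)⁻¹ * M.subtype w' * g = w
            rw [e, Subgroup.coe_subtype]; group
      · rintro ⟨hgM, hgK⟩
        refine ⟨⟨g, hgM⟩, mem_normalizer_iff.2 fun w => ⟨fun hw => ?_, fun hw => ?_⟩, rfl⟩
        · obtain ⟨w', hw', e⟩ := (mem_normalizer_iff.1 hgK (w : G)).1 ⟨w, hw, rfl⟩
          rwa [show (⟨g, hgM⟩ : M) * w * ⟨g, hgM⟩⁻¹ = w' from M.subtype_injective e.symm]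
        · obtain ⟨w', hw', e⟩ := (mem_normalizer_iff.1 hgK (w : G)).2 ⟨_, hw, rfl⟩
          rwa [show w = w' from M.subtype_injective e.symm]
    rw [h1, h2, ← inf_relIndex_right (H := M) (K := K), mul_comm, ← relIndex_bot_left, ← relIndex_bot_left,
      relIndex_mul_relIndex _ _ _ bot_le inf_le_right]
  have hidx0 : M.index ≠ 0 := Subgroup.index_ne_zero_of_finite
  have hodd : ∀ s, s.Prime → s ∣ M.index → s ≠ 3 → s ≠ 5 → s = 2 := fun s hs hd h3 h5 => by
    rcases h.prime_cases hs (hd.trans M.index_dvd_card) with e | e | e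
    · exact e
    · exact absurd e h3
    · exact absurd e h5
  have hn1 : ∀ r, [Fact r.Prime] → ∀ P : Sylow r M, r ∣ Nat.card M → Nat.card (Sylow r M) ≠ 1 := by
    intro r _ P hr hone
    haveI := (Nat.card_eq_one_iff_unique.1 hone).1
    have hPn : (P : Subgroup M).Normal := Sylow.normal_of_subsingleton P
    rcases hPn.eq_bot_or_eq_top with e | e
    · exact P.ne_bot_of_dvd_card hr e
    · have h2 := P.card_eq_multiplicity
      rw [e, Subgroup.card_top] at h2
      have hs : ∀ s, s.Prime → s ∣ Nat.card M → s = r := fun s hs hd =>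
        (Nat.prime_dvd_prime_iff_eq hs Fact.out).1 (hs.dvd_of_dvd_pow (h2 ▸ hd))
      have a2 := hs 2 Nat.prime_two (by rcases hMc with e | e <;> rw [e] <;> norm_num)
      have a3 := hs 3 Nat.prime_three (by rcases hMc with e | e <;> rw [e] <;> norm_num)
      omega
  obtain ⟨P5⟩ := (inferInstance : Nonempty (Sylow 5 M))
  obtain ⟨P3⟩ := (inferInstance : Nonempty (Sylow 3 M))
  have hP5 : Nat.card ((P5 : Subgroup M).map M.subtype) = 5 ^ 1 := by
    rw [Subgroup.card_map_of_injective M.subtype_injective, P5.card_eq_multiplicity, pow_one]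
    rcases hMc with e | e <;> rw [e] <;>
      exact pow_factorization_of_not_sq (by norm_num) (by norm_num) (by norm_num) (by norm_num)
  obtain ⟨e3, he3, hP3⟩ : ∃ e, (e = 1 ∧ Nat.card M = 60 ∨ e = 2 ∧ Nat.card M = 360) ∧
      Nat.card ((P3 : Subgroup M).map M.subtype) = 3 ^ e := by
    rw [Subgroup.card_map_of_injective M.subtype_injective, P3.card_eq_multiplicity]
    rcases hMc with e | e <;> rw [e]
    · refine ⟨1, Or.inl ⟨rfl, rfl⟩, ?_⟩
      rw [pow_factorization_of_not_sq (by norm_num) (by norm_num) (by norm_num) (by norm_num), pow_one]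
    · refine ⟨2, Or.inr ⟨rfl, rfl⟩, ?_⟩
      rw [show (360 : ℕ) = 3 ^ 2 * 40 from rfl, Nat.factorization_mul (by norm_num) (by norm_num), Finsupp.add_apply,
        Nat.prime_three.factorization_pow, Nat.factorization_eq_zero_of_not_dvd (by norm_num : ¬ 3 ∣ 40)]
      simp
  have f5 := hfr 5 P5
  have f3 := hfr 3 P3
  set K5 := normalizer (((P5 : Subgroup M).map M.subtype : Subgroup G) : Set G)
  set K3 := normalizer (((P3 : Subgroup M).map M.subtype : Subgroup G) : Set G)
  have no3 : ¬ 3 ∣ M.index := fun hd => by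
    have := h.norm_dvd (r := 5) (s := 3) (i := 1) (by norm_num) hP5 (by rw [pow_one, ← f5]; exact hd.mul_right _)
    norm_num at this
  have no5 : ¬ 5 ∣ M.index := fun hd => by
    have := h.norm_dvd (r := 3) (s := 5) (i := 1) (by norm_num) hP3 (by rw [pow_one, ← f3]; exact hd.mul_right _)
    rcases he3 with ⟨rfl, -⟩ | ⟨rfl, -⟩ <;> norm_num at this
  obtain ⟨a, ha⟩ : ∃ a, M.index = 2 ^ a := ⟨_, Nat.eq_prime_pow_of_unique_prime_dvd hidx0 (fun {d} hd hdd =>
    hodd d hd hdd (fun e => no3 (e ▸ hdd)) (fun e => no5 (e ▸ hdd)))⟩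
  -- the normalisers of Sylow subgroups of `M` have even order
  have heven : ∀ r, r = 3 ∨ r = 5 → [Fact r.Prime] → ∀ P : Sylow r M, (r = 3 → Nat.card M = 60) →
      2 ∣ Nat.card (normalizer ((P : Subgroup M) : Set M)) := by
    intro r hr _ P h60
    set K := normalizer ((P : Subgroup M) : Set M)
    have h0 : Nat.card (Sylow r M) = K.index := Sylow.card_eq_index_normalizer P
    have h1 : Nat.card (Sylow r M) * Nat.card K = Nat.card M := by rw [h0, Subgroup.index_mul_card]
    have h2 : Nat.card (Sylow r M) % r = 1 % r := card_sylow_modEq_one r M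
    have hne := hn1 r P (by rcases hr with rfl | rfl <;> rcases hMc with e | e <;> rw [e] <;> norm_num)
    have hdv : Nat.card (Sylow r M) ∣ Nat.card M := Dvd.intro _ h1
    by_contra hK
    have hK' : ∀ s, s.Prime → s ∣ Nat.card K → s ≠ r → s ∣ Nat.card (P : Subgroup M) - 1 := by
      intro s hs hsd hsr
      haveI := Fact.mk hs
      have := hM.norm_dvd (r := r) (s := s) (i := 1) hsr (P := (P : Subgroup M)) (P.card_eq_multiplicity)
        (by rwa [pow_one])
      rwa [pow_one, ← P.card_eq_multiplicity] at this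
    have hPc : r = 5 ∨ Nat.card M = 60 → Nat.card (P : Subgroup M) = r := by
      intro hc
      rw [P.card_eq_multiplicity]
      rcases hr with rfl | rfl <;> rcases hMc with e | e <;> first
        | (exfalso; omega)
        | (rw [e]; exact pow_factorization_of_not_sq (by norm_num) (by norm_num) (by norm_num) (by norm_num))
    rw [hPc (by rcases hr with e | e; exacts [Or.inr (h60 e), Or.inl e])] at hK'
    generalize hn : Nat.card (Sylow r M) = n at *
    generalize hk : Nat.card K = k at *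
    have h3' := hK' 3 Nat.prime_three
    have h5' := hK' 5 (by norm_num)
    have hcop : Nat.Coprime 4 k := by
      show Nat.Coprime (2 ^ 2) k
      exact (Nat.prime_two.coprime_iff_not_dvd.2 hK).pow_left 2
    have h4 : 4 ∣ n := hcop.dvd_of_dvd_mul_right (h1 ▸ (by rcases hMc with e | e <;> rw [e] <;> norm_num))
    obtain ⟨c, rfl⟩ := h4
    rcases hr with rfl | rfl
    · rw [h60 rfl] at h1
      have hc : c ≤ 15 := by
        rcases Nat.eq_zero_or_pos k with e | e
        · subst e; omega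
        · nlinarith
      interval_cases c <;> omega
    · have hc : c ≤ 90 := by
        rcases Nat.eq_zero_or_pos k with e | e
        · subst e; omega
        · rcases hMc with e' | e' <;> rw [e'] at h1 <;> nlinarith
      rcases hMc with e' | e' <;> rw [e'] at h1 <;> interval_cases c <;> omega
  have h2five : 2 ∣ Nat.card (normalizer ((P5 : Subgroup M) : Set M)) :=
    heven 5 (Or.inr rfl) P5 (fun e => absurd e (by norm_num))
  have h5b : 2 ^ (a + 1) ∣ 5 ^ 1 - 1 := h.norm_dvd (r := 5) (s := 2) (i := a + 1) (by norm_num) hP5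
    (by rw [← f5, ha, pow_succ]; exact Nat.mul_dvd_mul_left _ h2five)
  have ha1 : a ≤ 1 := by
    by_contra hlt
    have h3 := (pow_dvd_pow 2 (show 3 ≤ a + 1 by omega)).trans h5b
    norm_num at h3
  rcases he3 with ⟨rfl, h60⟩ | ⟨rfl, h360⟩
  · have h3b : 2 ^ (a + 1) ∣ 3 ^ 1 - 1 := h.norm_dvd (r := 3) (s := 2) (i := a + 1) (by norm_num) hP3
      (by rw [← f3, ha, pow_succ]; exact Nat.mul_dvd_mul_left _ (heven 3 (Or.inl rfl) P3 (fun _ => h60)))
    interval_cases a
    · rwa [pow_zero, Subgroup.index_eq_one] at ha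
    · norm_num at h3b
  · interval_cases a
    · rwa [pow_zero, Subgroup.index_eq_one] at ha
    · obtain ⟨e⟩ := Cfsg.Agent.S0497.result (G := M) h360
      exact (h.no_index_two h360 (by rw [ha, pow_one]) e).elim

/-- The structure theorem. -/
theorem structure_theorem (hex : ∀ k, k = 2 ∨ k = 3 ∨ k = 5 → ∃ x : G, orderOf x = k) :
    Nonempty (G ≃* ↥(alternatingGroup (Fin 6))) ∨
      ∃ (N : Subgroup G) (_ : N.Normal), Cfsg.IsElementaryAbelian 2 N ∧ Nonempty (G ⧸ N ≃* ↥(alternatingGroup (Fin 5))) := by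
  haveI : Fact (Nat.Prime 2) := ⟨Nat.prime_two⟩
  haveI : Fact (Nat.Prime 3) := ⟨Nat.prime_three⟩
  have hpp : ∀ g : G, g ≠ 1 → IsPrimePow (orderOf g) := fun g hg => by
    have h5 := h g
    have := orderOf_pos g
    have : orderOf g ≠ 1 := fun e => hg (orderOf_eq_one_iff.1 e)
    interval_cases e : orderOf g
    · omega
    · exact Nat.prime_two.isPrimePow
    · exact Nat.prime_three.isPrimePow
    · exact ⟨2, 2, Nat.prime_two.prime, two_pos, rfl⟩
    · exact (by norm_num : Nat.Prime 5).isPrimePow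
  have hns : ¬ Group.IsSolvable G := by
    intro hs
    have hap : Cfsg.Agent.OddLocal.AllPrimePowerOrders G := fun g a b ha hb hag hbg => by
      by_cases hg : g = 1
      · rw [hg, orderOf_one] at hag; exact absurd (Nat.dvd_one.1 hag) ha.ne_one
      · obtain ⟨p, k, hp, hk, hpk⟩ := hpp g hg
        rw [← hpk] at hag hbg
        rw [(Nat.prime_dvd_prime_iff_eq ha hp.nat_prime).1 (ha.dvd_of_dvd_pow hag),
          (Nat.prime_dvd_prime_iff_eq hb hp.nat_prime).1 (hb.dvd_of_dvd_pow hbg)]
    have h2 := Cfsg.Agent.OddLocal.two_primes_of_allPrimePowerOrders _ hap le_rfl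
    have hsub : ({2, 3, 5} : Finset ℕ) ⊆ (Nat.card G).primeFactors := by
      intro p hp
      simp only [Finset.mem_insert, Finset.mem_singleton] at hp
      obtain ⟨x, hx⟩ := hex p hp
      rw [Nat.mem_primeFactors]
      refine ⟨by rcases hp with rfl | rfl | rfl <;> norm_num, hx ▸ orderOf_dvd_natCard x, Nat.card_pos.ne'⟩
    have := (Finset.card_le_card hsub).trans h2
    simp at this
  set R := Cfsg.Agent.Components.solvableRadical G with hR
  haveI : R.Normal := Cfsg.Agent.Components.solvableRadical_normal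
  obtain ⟨⟨p, hp, hRp⟩, ⟨M, hMn, hMs, hMnc, hMmin⟩, -⟩ := Cfsg.Agent.S3992.result hns hpp R
    Cfsg.Agent.Components.solvableRadical_isSolvable (fun N hN hs => Cfsg.Agent.Components.le_solvableRadical hN hs)
  haveI := hMn
  haveI := hMs
  set π := QuotientGroup.mk' R with hπ
  have hπs : Function.Surjective π := QuotientGroup.mk'_surjective R
  have hQ : Spec5 (G ⧸ R) := h.of_surjective π hπs
  have hM : Spec5 M := hQ.of_injective M.subtype M.subtype_injective
  have hMc := hM.simple_card hMnc (hM.two_dvd_card_of_not_solvable fun hs => hMnc (by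
    exact ⟨⟨IsSimpleGroup.comm_iff_isSolvable.2 hs⟩⟩))
  have hMtop : M = ⊤ := hQ.socle_eq_top hMc
  haveI : IsSimpleGroup (G ⧸ R) := by
    have e : M ≃* (G ⧸ R) := (MulEquiv.subgroupCongr hMtop).trans Subgroup.topEquiv
    haveI : Nontrivial (G ⧸ R) := e.symm.toEquiv.nontrivial
    exact IsSimpleGroup.isSimpleGroup_of_surjective e.toMonoidHom e.surjective
  have hQc : Nat.card (G ⧸ R) = 60 ∨ Nat.card (G ⧸ R) = 360 := by
    rwa [hMtop, Subgroup.card_top] at hMc
  -- involutions of `G` over involutions of `G / R`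
  have hRbot_of_odd : p ≠ 2 → R = ⊥ := by
    intro hp2
    haveI := Fact.mk hp
    by_contra hne
    obtain ⟨v, z, hv2, hz2, hvzc, hv1, hz1, hvz⟩ : ∃ v z : G ⧸ R,
        v * v = 1 ∧ z * z = 1 ∧ v * z = z * v ∧ v ≠ 1 ∧ z ≠ 1 ∧ v ≠ z := by
      rcases hQc with e | e
      · obtain ⟨φ⟩ := Cfsg.Agent.S0494.result (G := G ⧸ R) e
        refine ⟨φ.symm ⟨Equiv.swap 0 1 * Equiv.swap 2 3, Equiv.Perm.mem_alternatingGroup.2 (by decide)⟩, φ.symm ⟨Equiv.swap 0 3 * Equiv.swap 1 2, Equiv.Perm.mem_alternatingGroup.2 (by decide)⟩,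
          ?_, ?_, ?_, ?_, ?_, ?_⟩ <;>
          simp only [← map_mul, ne_eq, EmbeddingLike.map_eq_one_iff, EmbeddingLike.apply_eq_iff_eq] <;> decide +kernel
      · obtain ⟨φ⟩ := Cfsg.Agent.S0497.result (G := G ⧸ R) e
        obtain ⟨z', u', -, hz2, hu2, hzu, hz1, hu1, hne', -⟩ := a6_four
        refine ⟨φ.symm z', φ.symm u', ?_, ?_, ?_, ?_, ?_, ?_⟩ <;>
          simp only [← map_mul, ne_eq, EmbeddingLike.map_eq_one_iff, EmbeddingLike.apply_eq_iff_eq] <;> assumption
    obtain ⟨a, ha⟩ := hπs v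
    obtain ⟨b, hb⟩ := hπs z
    have hord : ∀ a : G, π a * π a = 1 → π a ≠ 1 → a * a = 1 := by
      intro a h1 h2
      have haR : a * a ∈ R := (QuotientGroup.eq_one_iff _).1 (by show π (a * a) = 1; rw [map_mul, h1])
      by_contra hne'
      obtain ⟨k, hk⟩ := mem_pgroup_order hRp haR
      have h2d : 2 ∣ orderOf a := by
        rw [← orderOf_eq_prime (p := 2) (by rw [pow_two, h1]) h2]; exact orderOf_map_dvd π a
      obtain ⟨m, hm⟩ := h2d
      have h5 := h a
      rw [← pow_two, orderOf_pow' a two_ne_zero, hm, Nat.gcd_eq_right (dvd_mul_right 2 m),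
        Nat.mul_div_cancel_left _ two_pos] at hk
      have hm' : m ≤ 2 := by omega
      have hpos := orderOf_pos a
      rcases Nat.eq_zero_or_pos k with rfl | hk0
      · rw [pow_zero] at hk
        apply hne'
        rw [← pow_two, show (2 : ℕ) = orderOf a by omega, pow_orderOf_eq_one]
      · have hle := Nat.le_of_dvd (by omega) (hk.symm ▸ dvd_pow_self p hk0.ne' : p ∣ m)
        have := hp.two_le
        omega
    have ha2 := hord a (by rw [ha, hv2]) (by rw [ha]; exact hv1)
    have hb2 := hord b (by rw [hb, hz2]) (by rw [hb]; exact hz1)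
    obtain ⟨r, hr, hr1⟩ : ∃ r ∈ R, r ≠ 1 := by
      by_contra hall
      push Not at hall
      exact hne (le_bot_iff.1 fun x hx => Subgroup.mem_bot.2 (hall x hx))
    have hia := h.inverts hp2 hRp ha2 (fun e => hv1 (by rw [← ha, e, map_one])) (fun x hx => by
      have := ‹R.Normal›.conj_mem x hx a
      rwa [inv_eq_of_mul_eq_one_right ha2] at this)
    have hib := h.inverts hp2 hRp hb2 (fun e => hz1 (by rw [← hb, e, map_one])) (fun x hx => by
      have := ‹R.Normal›.conj_mem x hx b
      rwa [inv_eq_of_mul_eq_one_right hb2] at this)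
    have hab : a * b ∈ centralizer ({r} : Set G) := by
      rw [mem_centralizer_singleton_iff]
      have e1 := hib r hr
      have e2 := hia r⁻¹ (R.inv_mem hr)
      rw [inv_inv] at e2
      calc a * b * r = a * (b * r * b) * (a * a) * b⁻¹ := by rw [ha2]; group
        _ = a * r⁻¹ * a * (a * b⁻¹) := by rw [e1]; group
        _ = r * (a * b) := by rw [e2, inv_eq_of_mul_eq_one_right hb2]
    obtain ⟨k, hk⟩ := mem_pgroup_order hRp hr
    obtain ⟨l, hl⟩ := mem_pgroup_order (h.cent_isPGroup ⟨k, hk⟩ hr1) hab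
    have hvz' : π (a * b) ≠ 1 := by
      rw [map_mul, ha, hb]
      exact fun e => hvz ((eq_inv_of_mul_eq_one_left e).trans (inv_eq_of_mul_eq_one_right hz2))
    have h2d : 2 ∣ p ^ l := by
      rw [← hl]
      refine dvd_trans ?_ (orderOf_map_dvd π (a * b))
      rw [orderOf_eq_prime (p := 2) (by
        rw [pow_two, map_mul, ha, hb, (show Commute z v from hvzc.symm).mul_mul_mul_comm, hv2, hz2, mul_one]) hvz']
    exact hp2 ((Nat.prime_dvd_prime_iff_eq Nat.prime_two hp).1 (Nat.prime_two.dvd_of_dvd_pow h2d)).symm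
  rcases hQc with h60 | h360
  · right
    obtain ⟨e⟩ := Cfsg.Agent.S0494.result (G := G ⧸ R) h60
    refine ⟨R, inferInstance, ?_, ⟨e⟩⟩
    have hR2 : IsPGroup 2 R := by
      by_cases hp2 : p = 2
      · exact hp2 ▸ hRp
      · rw [hRbot_of_odd hp2]; exact IsPGroup.of_bot
    obtain ⟨u, hu, hu2⟩ : ∃ u : G, u ∉ R ∧ u * u ∈ R := by
      obtain ⟨w, hw⟩ := exists_prime_orderOf_dvd_card' (G := G ⧸ R) 2 (by rw [h60]; norm_num)
      obtain ⟨u, hu⟩ := hπs w
      refine ⟨u, fun e' => ?_, (QuotientGroup.eq_one_iff _).1 ?_⟩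
      · rw [show w = 1 by rw [← hu]; exact (QuotientGroup.eq_one_iff _).2 e', orderOf_one] at hw; omega
      · show π (u * u) = 1
        rw [map_mul, hu, ← pow_two, ← hw, pow_orderOf_eq_one]
    obtain ⟨y, -, s, -, hy, hs, hsy, -⟩ := h.exists_inverted hR2 (H := ⊤) le_top
      (fun x _ => by rw [normalizer_eq_top R]; trivial)
      (fun P _ hP hn => by
        haveI : P.Normal := ⟨fun z hz x => hn x (mem_top x) z hz⟩
        exact Cfsg.Agent.Components.le_solvableRadical inferInstance (haveI := hP.isNilpotent; inferInstance))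
      (mem_top u) hu hu2
    have hs1 : s ≠ 1 := fun e' => by
      rw [e', one_mul, mul_one, eq_inv_iff_mul_eq_one, ← pow_two] at hsy
      have := Nat.le_of_dvd two_pos (orderOf_dvd_of_pow_eq_one hsy)
      omega
    have hodd : Odd (orderOf y) := by rcases hy with e' | e' <;> rw [e'] <;> decide
    have hsup : IsPGroup 2 (zpowers s ⊔ R : Subgroup G) :=
      IsPGroup.to_sup_of_normal_right (IsPGroup.of_card (n := 1) (by
        rw [Nat.card_zpowers, orderOf_eq_prime (by rw [pow_two, hs]) hs1, pow_one])) hR2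
    have hexp := sq_eq_one R hR2 y s _ hodd (pow_orderOf_eq_one y) hs hsy (by rw [normalizer_eq_top R]; trivial)
      (by rw [normalizer_eq_top R]; trivial)
      (h.fpf hR2 (fun e' => by rw [e', orderOf_one] at hy; omega) hodd)
      (fun f hf => h.pow_four hsup (mul_mem (mem_sup_left (mem_zpowers s)) (mem_sup_right hf)))
      (fun f hf => h.pow_four hR2 hf)
    refine ⟨⟨⟨fun a b => Subtype.ext ?_⟩⟩, fun a ha => by rw [pow_two, hexp a ha]⟩
    have h1 := hexp _ (R.mul_mem a.2 b.2)
    rw [mul_eq_one_iff_eq_inv, mul_inv_rev, inv_eq_of_mul_eq_one_right (hexp _ a.2),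
      inv_eq_of_mul_eq_one_right (hexp _ b.2)] at h1
    exact h1
  · left
    have hbot : R = ⊥ := by
      by_cases hp2 : p = 2
      · subst hp2
        by_contra hne
        obtain ⟨Q, hQ'⟩ := Sylow.exists_subgroup_card_pow_prime (G := G) 3 (n := 2) (by
          rw [← R.card_mul_index, Subgroup.index_eq_card, h360]
          exact Dvd.dvd.mul_left (by norm_num) _)
        have := h.card_dvd_prime hRp hne (r := 3) (by norm_num) (IsPGroup.of_card hQ')
          (fun x _ => by rw [normalizer_eq_top R]; trivial)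
        rw [hQ'] at this
        norm_num at this
      · exact hRbot_of_odd hp2
    obtain ⟨e⟩ := Cfsg.Agent.S0497.result (G := G ⧸ R) h360
    exact ⟨((QuotientGroup.quotientBot (G := G)).symm.trans (QuotientGroup.quotientMulEquivOfEq hbot.symm)).trans e⟩

end Spec5

end Cfsg.Agent.SmallOrder.Spec5
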